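import Groth.Agent.TMul.AmpleProd
import Groth.Agent.TMul.AmpleComp
import Groth.Agent.RZExt.Graph
import Groth.Agent.S14809

/-!
# `Y`-blow-ups
-/

set_option autoImplicit false
set_option linter.style.haveILetI false
set_option backward.isDefEq.respectTransparency false
set_option backward.isDefEq.respectTransparency.types false

universe u

open CategoryTheory CategoryTheory.Limits AlgebraicGeometry TopologicalSpace

noncomputable section

namespace Groth.Agent.YBlowUp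

variable {X Y Z : Scheme.{u}}

theorem genLocus_id : CohB1.genLocus (Coh.structureModule X) (𝟙 (Coh.structureModule X)) = ⊤ :=
  top_le_iff.mp fun x _ => Opens.mem_sSup.mpr ⟨⊤, by
    change IsIso _
    rw [CategoryTheory.Functor.map_id]; infer_instance, trivial⟩

/-- A section is trivialised by pullback exactly when the image lies in its generating locus. -/
theorem isIso_pullback_map_iff (f : Y ⟶ X) {L : X.Modules} (hL : PicF.IsInvertible L)
    (ε : Coh.structureModule X ⟶ L) :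
    IsIso ((Scheme.Modules.pullback f).map ε) ↔ ∀ y, f y ∈ CohB1.genLocus L ε := by
  let e := (PicLoc.pullbackStructureIso f).symm
  have key := TMul.genLocus_pullback f hL ε e
  constructor
  · intro h y
    have h2 : CohB1.genLocus ((Scheme.Modules.pullback f).obj L) (e.hom ≫ (Scheme.Modules.pullback f).map ε) = ⊤ := by
      haveI := h
      rw [← Category.id_comp (e.hom ≫ (Scheme.Modules.pullback f).map ε), TMul.genLocus_comp, genLocus_id]
    exact (key.symm.trans h2).ge (Set.mem_univ y)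
  · intro h
    haveI := S14809.isIso_of_genLocus_top _ (key.trans (top_le_iff.1 fun y _ => h y))
    exact IsIso.of_isIso_comp_left e.hom _

/-- A morphism to the base with a relatively ample module trivialised on `Y`. -/
def HasTriv (f : Y ⟶ X) {S : Scheme.{u}} (g : X ⟶ S) : Prop :=
  ∃ (L : X.Modules) (ε : Coh.structureModule X ⟶ L),
    RelAmple.IsRelAmple g L ∧ IsIso ((Scheme.Modules.pullback f).map ε)

/-- Relative ampleness along an isomorphism of bases. -/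
theorem isRelAmple_comp_iso {S S' : Scheme.{u}} {g : X ⟶ S} {L : X.Modules} (h : RelAmple.IsRelAmple g L)
    (e : S ⟶ S') [IsIso e] : RelAmple.IsRelAmple (g ≫ e) L :=
  haveI := h.1
  ⟨inferInstance, fun V => h.2 ⟨e ⁻¹ᵁ V.1, V.2.preimage e⟩⟩

/-- Trivialisations pull back to the fibre product. -/
theorem hasTriv_pullback {S X₁ X₂ : Scheme.{u}} {f₁ : Y ⟶ X₁} {g₁ : X₁ ⟶ S} {f₂ : Y ⟶ X₂} {g₂ : X₂ ⟶ S}
    (h₁ : HasTriv f₁ g₁) (h₂ : HasTriv f₂ g₂) (h : f₁ ≫ g₁ = f₂ ≫ g₂) :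
    HasTriv (pullback.lift f₁ f₂ h) (pullback.fst g₁ g₂ ≫ g₁) := by
  obtain ⟨L₁, ε₁, hL₁, hε₁⟩ := h₁
  obtain ⟨L₂, ε₂, hL₂, hε₂⟩ := h₂
  haveI := hL₁.1
  haveI := hL₂.1
  have hi₁ := TMul.isInvertible_of_isRelAmple hL₁
  have hi₂ := TMul.isInvertible_of_isRelAmple hL₂
  let p := pullback.fst g₁ g₂
  let q := pullback.snd g₁ g₂
  let e₁ := (PicLoc.pullbackStructureIso p).symm
  let e₂ := (PicLoc.pullbackStructureIso q).symm
  let σ₁ := e₁.hom ≫ (Scheme.Modules.pullback p).map ε₁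
  let σ₂ := e₂.hom ≫ (Scheme.Modules.pullback q).map ε₂
  refine ⟨TMul.ext p q L₁ L₂, SecTwist.tmulHom σ₁ σ₂, ?_, ?_⟩
  · let a := pullback.congrHom (Category.comp_id g₁) (Category.comp_id g₂)
    let r : pullback (g₁ ≫ 𝟙 S) (g₂ ≫ 𝟙 S) ⟶ pullback (𝟙 S) (𝟙 S) :=
      pullback.map _ _ _ _ g₁ g₂ (𝟙 S) (by simp) (by simp)
    haveI : QuasiCompact (pullback.fst (g₁ ≫ 𝟙 S) (g₂ ≫ 𝟙 S) ≫ g₁) := inferInstance
    have hr : r ≫ pullback.fst (𝟙 S) (𝟙 S) = pullback.fst (g₁ ≫ 𝟙 S) (g₂ ≫ 𝟙 S) ≫ g₁ := pullback.lift_fst _ _ _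
    haveI : IsIso (pullback.fst (𝟙 S) (𝟙 S)) := inferInstance
    haveI : QuasiCompact r := by
      have : QuasiCompact (r ≫ pullback.fst (𝟙 S) (𝟙 S)) := by rw [hr]; infer_instance
      exact QuasiCompact.of_comp r (pullback.fst (𝟙 S) (𝟙 S))
    have := isRelAmple_comp_iso (TMul.isRelAmple_ext_map (𝟙 S) (𝟙 S) g₁ g₂ hL₁ hL₂ r hr (pullback.lift_snd _ _ _))
      (pullback.fst (𝟙 S) (𝟙 S))
    rw [hr] at this
    have key : ∀ (b₁ : X₁ ⟶ S) (b₂ : X₂ ⟶ S) (_ : g₁ ≫ 𝟙 S = b₁) (_ : g₂ ≫ 𝟙 S = b₂),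
        RelAmple.IsRelAmple (pullback.fst b₁ b₂ ≫ g₁) (TMul.ext (pullback.fst b₁ b₂) (pullback.snd b₁ b₂) L₁ L₂) := by
      rintro _ _ rfl rfl
      exact this
    exact key g₁ g₂ (Category.comp_id _) (Category.comp_id _)
  · refine (isIso_pullback_map_iff _ (TMul.isInvertible_ext p q hi₁ hi₂) _).2 fun y => ?_
    rw [TMul.genLocus_tmulHom (PicLoc.isInvertible_pullback p hi₁) (PicLoc.isInvertible_pullback q hi₂),
      TMul.genLocus_pullback p hi₁ ε₁ e₁, TMul.genLocus_pullback q hi₂ ε₂ e₂]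
    refine ⟨?_, ?_⟩
    · show p (pullback.lift f₁ f₂ h y) ∈ CohB1.genLocus L₁ ε₁
      rw [← Scheme.Hom.comp_apply, pullback.lift_fst]
      exact (isIso_pullback_map_iff f₁ hi₁ ε₁).1 hε₁ y
    · show q (pullback.lift f₁ f₂ h y) ∈ CohB1.genLocus L₂ ε₂
      rw [← Scheme.Hom.comp_apply, pullback.lift_snd]
      exact (isIso_pullback_map_iff f₂ hi₂ ε₂).1 hε₂ y

/-- Trivialisations pass to a closed subscheme containing the image. -/
theorem hasTriv_of_inducing {S X' : Scheme.{u}} {f : Y ⟶ X} {g : X ⟶ S} (h : HasTriv f g) (f' : Y ⟶ X') (j : X' ⟶ X)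
    [QuasiCompact j] (hj : Topology.IsInducing j.base) (e : f' ≫ j = f) : HasTriv f' (j ≫ g) := by
  obtain ⟨L, ε, hL, hε⟩ := h
  haveI := hL.1
  have hi := TMul.isInvertible_of_isRelAmple hL
  refine ⟨_, (PicLoc.pullbackStructureIso j).symm.hom ≫ (Scheme.Modules.pullback j).map ε,
    TMul.isRelAmple_pullback_of_isInducing j hj hL, ?_⟩
  refine (isIso_pullback_map_iff _ (PicLoc.isInvertible_pullback j hi) _).2 fun y => ?_
  rw [TMul.genLocus_pullback j hi ε _]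
  show j (f' y) ∈ CohB1.genLocus L ε
  rw [← Scheme.Hom.comp_apply, e]
  exact (isIso_pullback_map_iff f hi ε).1 hε y

/-- Two `Y`-blow-ups are dominated by one. -/
theorem exists_common {S : Scheme.{u}} [CompactSpace Y] [QuasiSeparatedSpace S] {X₁ X₂ : Scheme.{u}} (f₁ : Y ⟶ X₁)
    (g₁ : X₁ ⟶ S) [IsProper g₁] (f₂ : Y ⟶ X₂) (g₂ : X₂ ⟶ S) [IsProper g₂] (h : f₁ ≫ g₁ = f₂ ≫ g₂)
    (h₁ : HasTriv f₁ g₁) (h₂ : HasTriv f₂ g₂) :
    ∃ (X₃ : Scheme.{u}) (f₃ : Y ⟶ X₃) (g₃ : X₃ ⟶ S) (d₁ : X₃ ⟶ X₁) (d₂ : X₃ ⟶ X₂),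
      IsSchemeTheoreticallyDominant f₃ ∧ IsProper g₃ ∧ HasTriv f₃ g₃ ∧
      f₃ ≫ d₁ = f₁ ∧ d₁ ≫ g₁ = g₃ ∧ f₃ ≫ d₂ = f₂ ∧ d₂ ≫ g₂ = g₃ := by
  let P := pullback g₁ g₂
  haveI : QuasiSeparatedSpace P := quasiSeparatedSpace_of_quasiSeparated (pullback.fst g₁ g₂ ≫ g₁)
  let L := pullback.lift f₁ f₂ h
  haveI : QuasiCompact L := quasiCompact_of_compactSpace L
  refine ⟨L.image, L.toImage, L.imageι ≫ pullback.fst g₁ g₂ ≫ g₁, L.imageι ≫ pullback.fst g₁ g₂,
    L.imageι ≫ pullback.snd g₁ g₂, RZExt.isSchemeTheoreticallyDominant_toImage L, inferInstance,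
    hasTriv_of_inducing (hasTriv_pullback h₁ h₂ h) _ _ L.imageι.isClosedEmbedding.isInducing (L.toImage_imageι), ?_,
    Category.assoc _ _ _, ?_, ?_⟩
  · rw [Scheme.Hom.toImage_imageι_assoc, pullback.lift_fst]
  · rw [Scheme.Hom.toImage_imageι_assoc, pullback.lift_snd]
  · rw [Category.assoc, pullback.condition]

end Groth.Agent.YBlowUp

namespace Groth.Agent.YBlowUp

variable {X Y Z : Scheme.{u}}

/-- Trivialisations compose. -/
theorem hasTriv_comp {S : Scheme.{u}} [CompactSpace S] {f : Y ⟶ X} {g : X ⟶ S} {f' : Y ⟶ Z} {g' : Z ⟶ X}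
    (h : HasTriv f g) (h' : HasTriv f' g') (e : f' ≫ g' = f) : HasTriv f' (g' ≫ g) := by
  obtain ⟨K, εK, hK, hεK⟩ := h
  obtain ⟨L, εL, hL, hεL⟩ := h'
  have hiK := TMul.isInvertible_of_isRelAmple hK
  have hiL := TMul.isInvertible_of_isRelAmple hL
  obtain ⟨n₀, hn₀, hn⟩ := TMul.exists_isRelAmple_comp g' g hL hK
  have hiP := TMul.isInvertible_tensorPow hiK (n₀ + 1)
  let e' := (PicLoc.pullbackStructureIso g').symm
  refine ⟨_, SecTwist.tmulHom εL (e'.hom ≫ (Scheme.Modules.pullback g').map (SecTwist.powHom εK (n₀ + 1))),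
    hn (n₀ + 1) (Nat.le_succ _), ?_⟩
  refine (isIso_pullback_map_iff _ (TMul.isInvertible_tensorMod hiL (PicLoc.isInvertible_pullback g' hiP)) _).2 fun y => ?_
  rw [TMul.genLocus_tmulHom hiL (PicLoc.isInvertible_pullback g' hiP), TMul.genLocus_pullback g' hiP _ e',
    TMul.genLocus_powHom hiK εK n₀]
  refine ⟨(isIso_pullback_map_iff f' hiL εL).1 hεL y, ?_⟩
  show g' (f' y) ∈ CohB1.genLocus K εK
  rw [← Scheme.Hom.comp_apply, e]
  exact (isIso_pullback_map_iff f hiK εK).1 hεK y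

end Groth.Agent.YBlowUp
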