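import Groth.Agent.YBlowUp.Embed
import Groth.Agent.ResDesc.CartierFam
import Groth.Agent.LocImmBlow.Apps
import Groth.Agent.LocImmFT.Cons
import Groth.Agent.BlowAmp.Ample

/-!
# Dominating a proper model by one with an ample boundary, Noetherian case
-/

set_option autoImplicit false
set_option linter.style.haveILetI false
set_option backward.isDefEq.respectTransparency false
set_option backward.isDefEq.respectTransparency.types false

universe u

open CategoryTheory CategoryTheory.Limits AlgebraicGeometry TopologicalSpace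
open Groth.Agent.QC (res res_res res_self)

noncomputable section

namespace Groth.Agent.YBlowUp

open Groth.Agent

/-- The ideal module is trivial off the support. -/
theorem exists_gen_idealMod {W : Scheme.{u}} (E : W.IdealSheafData) (G : W.Opens)
    (hG : Disjoint (E.support : Set W) (G : Set W)) :
    ∃ s : Coh.structureModule (G : Scheme.{u}) ⟶ (ClSub.idealMod E).restrict G.ι,
      CohB1.genLocus _ s = ⊤ := by
  have hemp : E.subschemeι ⁻¹ᵁ G = ⊥ := eq_bot_iff.2 fun x hx =>
    (Set.disjoint_left.1 hG (E.range_subschemeι.le ⟨x, rfl⟩) hx).elim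
  haveI : Subsingleton Γ(E.subscheme, E.subschemeι ⁻¹ᵁ G) := by
    rw [hemp]
    infer_instance
  have hinj : ∀ V : W.Opens, Function.Injective ((ClSub.idealModι E).app V) :=
    fun V => QC.app_injective_of_mono _ V
  obtain ⟨g, hg⟩ := (QC.mem_range_idealModι E G 1).2 (Subsingleton.elim _ _)
  have hgen : TMul.IsGen g := by
    intro V hV
    have hι : ∀ c : Γ(W, V), (show Γ(W, V) from (ClSub.idealModι E).app V (c • res _ hV g)) = c := by
      intro c
      rw [Scheme.Modules.Hom.app_smul, ← QC.app_res, hg]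
      show c * W.presheaf.map (homOfLE hV).op (1 : Γ(W, G)) = c
      rw [map_one, mul_one]
    exact ⟨fun c d h => (hι c).symm.trans ((congrArg _ h).trans (hι d)),
      fun m => ⟨(ClSub.idealModι E).app V m, hinj V (hι _)⟩⟩
  have hle : G.ι ''ᵁ ⊤ ≤ G := G.ι_image_le ⊤
  let s : Coh.structureModule (G : Scheme.{u}) ⟶ (ClSub.idealMod E).restrict G.ι :=
    TMul.homOf (L := (ClSub.idealMod E).restrict G.ι) (res (ClSub.idealMod E) hle g : Γ(ClSub.idealMod E, G.ι ''ᵁ ⊤))
  refine ⟨s, top_le_iff.1 (TMul.le_genLocus _ ((TMul.isGen_restrict_iff G.ι s ⊤).2 ?_))⟩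
  rw [TMul.val_homOf, QC.res_self]
  have : res ((ClSub.idealMod E).restrict G.ι) (le_rfl : (⊤ : (G : Scheme.{u}).Opens) ≤ ⊤)
      (res (ClSub.idealMod E) hle g : Γ(ClSub.idealMod E, G.ι ''ᵁ ⊤)) = res (ClSub.idealMod E) hle g := res_self _ _ _
  rw [this]
  exact hgen.res hle

set_option maxHeartbeats 800000 in
/-- Every proper model of an affine scheme over the base is dominated by one with a trivialised ample module. -/
theorem exists_core {S Y₀ Z : Scheme.{u}} [IsNoetherian S] (g₀ : Y₀ ⟶ S) [IsAffineHom g₀] [LocallyOfFiniteType g₀]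
    (p : Z ⟶ S) [IsProper p] (h : Y₀ ⟶ Z) (hh : h ≫ p = g₀) :
    ∃ (W : Scheme.{u}) (w : Y₀ ⟶ W) (ρ : W ⟶ S) (d : W ⟶ Z),
      IsProper ρ ∧ HasTriv w ρ ∧ w ≫ d = h ∧ d ≫ p = ρ := by
  haveI : IsNoetherian Y₀ := LocImmBlow.isNoetherian_of_ft g₀
  obtain ⟨P, q, k, M, σ, hproj, _, _, hkq, hM, hkσ, hcl⟩ := exists_embedding g₀
  haveI : IsProper q := (SymAlg.isProper_and_ftData_of_isProjective hproj).1
  haveI : IsNoetherian P := LocImmBlow.isNoetherian_of_ft q
  haveI : IsNoetherian k.image := LocImmBlow.isNoetherian_of_ft k.imageι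
  haveI : IsOpenImmersion k.toImage := inferInstance
  let a : k.image ⟶ S := k.imageι ≫ q
  have hMi := TMul.isInvertible_of_isRelAmple hM
  have hM₁ : RelAmple.IsRelAmple a ((Scheme.Modules.pullback k.imageι).obj M) :=
    TMul.isRelAmple_pullback_of_isInducing k.imageι k.imageι.isClosedEmbedding.isInducing hM
  have hMi₁ := PicLoc.isInvertible_pullback k.imageι hMi
  obtain ⟨I, W, c, w, d, hc, hI, -, -, hwc, hwd, hcd⟩ := LocImmBlow.exists_extension a p k.toImage
    (LocImmFT.isLocImmersion_of_isOpenImmersion _) h (by rw [Scheme.Hom.toImage_imageι_assoc, hkq, hh])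
  haveI := LocImmBlow.isProper_blowUp hc
  haveI := LocImmBlow.isNoetherian_blowUp hc
  let c' := c ≫ k.imageι
  let e := (PicLoc.pullbackStructureIso c').symm
  let σ' := e.hom ≫ (Scheme.Modules.pullback c').map σ
  have hσ' : CohB1.genLocus _ σ' = c' ⁻¹ᵁ CohB1.genLocus M σ := TMul.genLocus_pullback c' hMi σ e
  have hrange : ∀ z : k.image, k.imageι z ∈ CohB1.genLocus M σ → z ∈ Set.range k.toImage := by
    intro z hz
    have h1 : k.imageι z ∈ closure (Set.range k) := by
      rw [← Scheme.Hom.support_ker, ← Scheme.IdealSheafData.range_subschemeι]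
      exact ⟨z, rfl⟩
    obtain ⟨y, hy⟩ | h2 := closure_minimal Set.subset_union_left hcl h1
    · exact ⟨y, k.imageι.isClosedEmbedding.injective (by rw [← Scheme.Hom.comp_apply, k.toImage_imageι]; exact hy)⟩
    · exact (h2 hz).elim
  have hdisj : Disjoint ((I.comap c).support : Set W) ((c' ⁻¹ᵁ CohB1.genLocus M σ : W.Opens) : Set W) := by
    rw [Scheme.IdealSheafData.support_comap, Closeds.coe_preimage]
    exact Set.disjoint_left.2 fun z hz hz' => Set.disjoint_left.1 hI hz (hrange (c z) hz')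
  obtain ⟨s, hs⟩ := exists_gen_idealMod (I.comap c) _ hdisj
  have hLi : PicF.IsInvertible (ClSub.idealMod (I.comap c)) := (Groth.Agent.S8914.result _).mpr hc.1
  have hN : PicF.IsInvertible ((Scheme.Modules.pullback c').obj M) := PicLoc.isInvertible_pullback c' hMi
  obtain ⟨k₀, hk₀⟩ := TMul.exists_genLocus_extend_pow hLi hN σ' hσ' s
  obtain ⟨n₀, -, hn₀⟩ := TMul.exists_isRelAmple_comp c a (L := ClSub.idealMod (I.comap c))
    ⟨inferInstance, fun V => BlowAmp.isAmple_restrict_exceptional hc (RZUnion.isFiniteType_of_isLocallyNoetherian _) V⟩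
    hM₁
  obtain ⟨t, ht⟩ := hk₀ (max k₀ n₀) (le_max_left _ _)
  obtain ⟨e₁⟩ := TMul.nonempty_pullPowIso c ((Scheme.Modules.pullback k.imageι).obj M) (max k₀ n₀)
  let e₀ : (Scheme.Modules.pullback c').obj M ≅
      (Scheme.Modules.pullback c).obj ((Scheme.Modules.pullback k.imageι).obj M) :=
    ((Scheme.Modules.pullbackComp c k.imageι).app M).symm
  obtain ⟨e₂⟩ := TMul.nonempty_powCongr e₀ (max k₀ n₀)
  let φ := PicGrp.tensorModIso (Iso.refl (ClSub.idealMod (I.comap c))) (e₂ ≪≫ e₁)
  refine ⟨W, w, c ≫ a, d, inferInstance, ⟨_, t ≫ φ.hom, hn₀ _ (le_max_right _ _), ?_⟩, hwd, hcd.symm⟩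
  refine (isIso_pullback_map_iff w (TMul.isInvertible_tensorMod hLi (PicLoc.isInvertible_pullback c
    (TMul.isInvertible_tensorPow hMi₁ _))) _).2 fun y => ?_
  rw [TMul.genLocus_comp, ← ht, hs, Scheme.Hom.image_top_eq_opensRange, Scheme.Opens.opensRange_ι]
  show k.imageι (c (w y)) ∈ CohB1.genLocus M σ
  rw [← Scheme.Hom.comp_apply w c, hwc, ← Scheme.Hom.comp_apply, k.toImage_imageι]
  exact hkσ y

end Groth.Agent.YBlowUp
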