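import Groth.Agent.YBlowUp.Core
import Groth.Agent.Nagata.Reduce
import Groth.Agent.Nagata.Noether
import Groth.Agent.LimMore.AffScheme
import Groth.Agent.RZExt.Graph

/-!
# Every modification is dominated by a blow-up
-/

set_option autoImplicit false
set_option linter.style.haveILetI false
set_option backward.isDefEq.respectTransparency false
set_option backward.isDefEq.respectTransparency.types false

universe u

open CategoryTheory CategoryTheory.Limits AlgebraicGeometry TopologicalSpace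

noncomputable section

namespace Groth.Agent.YBlowUp

open Groth.Agent Groth.Agent.AbsApprox

variable {X Y : Scheme.{u}}

/-- Trivialisations pull back along affine base change. -/
theorem hasTriv_baseChange {S S' W Z : Scheme.{u}} {w : Y ⟶ W} {ρ : W ⟶ S} (h : HasTriv w ρ) (a : S' ⟶ S)
    (v : Z ⟶ pullback ρ a) (y : Y ⟶ Z)
    (hy : y ≫ v ≫ pullback.fst ρ a = w) [QuasiCompact v] (hvi : Topology.IsInducing v.base) :
    HasTriv y (v ≫ pullback.snd ρ a) := by
  obtain ⟨L, ε, hL, hε⟩ := h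
  haveI := hL.1
  have hi := TMul.isInvertible_of_isRelAmple hL
  have h' : HasTriv (y ≫ v) (pullback.snd ρ a) := by
    refine ⟨_, (PicLoc.pullbackStructureIso (pullback.fst ρ a)).symm.hom ≫
      (Scheme.Modules.pullback (pullback.fst ρ a)).map ε, TMul.isRelAmple_baseChange a hL, ?_⟩
    refine (isIso_pullback_map_iff _ (PicLoc.isInvertible_pullback _ hi) _).2 fun z => ?_
    rw [TMul.genLocus_pullback _ hi ε _]
    show pullback.fst ρ a ((y ≫ v) z) ∈ CohB1.genLocus L ε
    rw [← Scheme.Hom.comp_apply, Category.assoc, hy]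
    exact (isIso_pullback_map_iff w hi ε).1 hε z
  exact hasTriv_of_inducing h' y v hvi rfl

set_option maxHeartbeats 800000 in
/-- Every modification is dominated by a `Y`-blow-up. -/
theorem exists_dominating [CompactSpace X] [QuasiSeparatedSpace X] [CompactSpace Y] [QuasiSeparatedSpace Y]
    (f : Y ⟶ X) [IsAffineHom f] {X' : Scheme.{u}} (f' : Y ⟶ X') (g' : X' ⟶ X) [IsProper g'] (hf' : f' ≫ g' = f) :
    ∃ (X₁ : Scheme.{u}) (f₁ : Y ⟶ X₁) (g₁ : X₁ ⟶ X) (d : X₁ ⟶ X'),
      IsSchemeTheoreticallyDominant f₁ ∧ IsProper g₁ ∧ f₁ ≫ g₁ = f ∧ HasTriv f₁ g₁ ∧ f₁ ≫ d = f' ∧ d ≫ g' = g₁ := by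
  obtain ⟨X₀, S₀, f₀, a, i, _, _, _, _, _, _, _, hi⟩ := Nagata.exists_reduction_affine g'
  haveI : QuasiCompact f₀ := inferInstance
  obtain ⟨Z, j, p, _, _, _, hjp⟩ := Nagata.exists_compactification f₀
  subst hjp
  let m : pullback (j ≫ p) a ⟶ pullback p a := pullback.map (j ≫ p) a p a j (𝟙 X) (𝟙 S₀) (by simp) (by simp)
  haveI : Mono m := by
    refine ⟨fun {W} u v huv => ?_⟩
    apply pullback.hom_ext
    · rw [← cancel_mono j, Category.assoc, Category.assoc]
      simpa [m, pullback.map] using congrArg (· ≫ pullback.fst p a) huv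
    · simpa [m, pullback.map] using congrArg (· ≫ pullback.snd p a) huv
  let i' := i ≫ m
  have hi' : i' ≫ pullback.snd p a = g' := by simp [i', m, pullback.map, hi]
  haveI : IsProper (i' ≫ pullback.snd p a) := hi' ▸ inferInstance
  haveI : IsProper i' := IsProper.of_comp (f := i') (g := pullback.snd p a)
  haveI : IsClosedImmersion i' := (IsClosedImmersion.iff_isProper_and_mono _).2 ⟨inferInstance, inferInstance⟩
  let h : Y ⟶ Z := f' ≫ i' ≫ pullback.fst p a
  have hh : h ≫ p = f ≫ a := by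
    simp only [h, Category.assoc, pullback.condition]
    rw [reassoc_of% hi', reassoc_of% hf']
  haveI := Nagata.isNoetherian_spec_int.{u}
  obtain ⟨I, _, _, _, D, π, hl, h1, h2, -⟩ := hasApprox Y
  haveI : IsCofiltered Iᵒᵖ := isCofiltered_op_of_isFiltered _
  haveI : ∀ {i j : Iᵒᵖ} (f : i ⟶ j), IsAffineHom (D.map f) := fun f => h1 _ _ f
  haveI : ∀ i, CompactSpace (D.obj i) := fun i => (h2 i).1
  haveI : ∀ i, QuasiSeparatedSpace (D.obj i) := fun i => quasiSeparatedSpace_of_lft (h2 i).2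
  obtain ⟨i₀, g₀, hg₀, _⟩ := Nagata.exists_stage D (Cone.mk Y π) hl (f ≫ a)
  let D' := Over.forget i₀ ⋙ D
  let c' : Cone D' := (Cone.mk Y π).whisker (Over.forget i₀)
  have hc' : IsLimit c' := (Functor.Initial.isLimitWhiskerEquiv (Over.forget i₀) (Cone.mk Y π)).symm hl
  haveI : ∀ {s t : Over i₀} (u : s ⟶ t), IsAffineHom (D'.map u) := fun u => inferInstanceAs (IsAffineHom (D.map u.left))
  haveI : ∀ s : Over i₀, CompactSpace (D'.obj s) := fun s => inferInstanceAs (CompactSpace (D.obj s.left))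
  haveI : ∀ s : Over i₀, QuasiSeparatedSpace (D'.obj s) := fun s => inferInstanceAs (QuasiSeparatedSpace (D.obj s.left))
  let t : ∀ s : Over i₀, D'.obj s ⟶ S₀ := fun s => D.map s.hom ≫ g₀
  have ht : ∀ {s s' : Over i₀} (u : s ⟶ s'), D'.map u ≫ t s' = t s := fun {s s'} u => by
    show D.map u.left ≫ D.map s'.hom ≫ g₀ = _
    rw [← Category.assoc, ← D.map_comp, Over.w]
  have hπt : ∀ s, c'.π.app s ≫ t s = f ≫ a := fun s => by
    show π.app s.left ≫ D.map s.hom ≫ g₀ = _
    rw [← Category.assoc, (Cone.mk Y π).w s.hom]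
    exact hg₀
  haveI : LocallyOfFinitePresentation p := lfp_of_lft_noetherian p
  obtain ⟨s₁, h₁, hh₁, hh₁p⟩ := Scheme.exists_π_app_comp_eq_of_locallyOfFinitePresentation D'
    { app := t, naturality := fun _ _ u => (ht u).trans (Category.comp_id _).symm } p c' hc' h
    (by ext s; exact (hπt s).trans hh.symm)
  haveI : IsAffineHom (c'.π.app s₁ ≫ t s₁) := by rw [hπt]; infer_instance
  obtain ⟨s₂, hs₂⟩ := LimMore.exists_isAffineHom_over D' t (fun u => ht u) c' hc' s₁
  obtain ⟨s, ⟨u₁⟩, ⟨u₂⟩⟩ : ∃ s, Nonempty (s ⟶ s₁) ∧ Nonempty (s ⟶ s₂) :=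
    ⟨_, ⟨IsCofiltered.minToLeft s₁ s₂⟩, ⟨IsCofiltered.minToRight s₁ s₂⟩⟩
  haveI : IsAffineHom (t s) := hs₂ s u₂
  haveI : LocallyOfFiniteType (t s) := by
    haveI : LocallyOfFiniteType (t s ≫ Limits.IsTerminal.from specULiftZIsTerminal S₀) := by
      rw [specULiftZIsTerminal.hom_ext (t s ≫ _) (Limits.IsTerminal.from specULiftZIsTerminal (D'.obj s))]
      exact (h2 _).2
    exact locallyOfFiniteType_of_comp (t s) (Limits.IsTerminal.from specULiftZIsTerminal S₀)
  obtain ⟨W, w, ρ, dW, _, hW, hwd, hdρ⟩ := exists_core (t s) p (D'.map u₁ ≫ h₁) (by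
    rw [Category.assoc, hh₁p]; exact ht u₁)
  let y₀ := c'.π.app s ≫ w
  have hy₀d : y₀ ≫ dW = h := by
    rw [Category.assoc, hwd, ← Category.assoc, c'.w, hh₁]
  have hy₀ρ : y₀ ≫ ρ = f ≫ a := by rw [← hdρ, reassoc_of% hy₀d, hh]
  let π₂ : pullback ρ a ⟶ pullback p a := pullback.map ρ a p a dW (𝟙 X) (𝟙 S₀) (by simp [hdρ]) (by simp)
  let yP : Y ⟶ pullback π₂ i' := pullback.lift (pullback.lift y₀ f hy₀ρ) f' (by
    apply pullback.hom_ext
    · simp [π₂, pullback.map, hy₀d, h]
    · simp [π₂, pullback.map, hi', hf'])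
  haveI : IsProper (pullback.fst π₂ i' ≫ pullback.snd ρ a) := inferInstance
  haveI : QuasiSeparatedSpace (pullback π₂ i' : Scheme.{u}) :=
    quasiSeparatedSpace_of_quasiSeparated (pullback.fst π₂ i' ≫ pullback.snd ρ a)
  haveI : QuasiCompact yP := quasiCompact_of_compactSpace yP
  let v := yP.imageι ≫ pullback.fst π₂ i'
  refine ⟨yP.image, yP.toImage, v ≫ pullback.snd ρ a, yP.imageι ≫ pullback.snd π₂ i',
    RZExt.isSchemeTheoreticallyDominant_toImage yP, inferInstance, ?_, ?_, ?_, ?_⟩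
  · simp [v, yP]
  · obtain ⟨L, ε, hL, hε⟩ := hW
    haveI : IsClosedImmersion v := inferInstance
    refine hasTriv_baseChange (w := y₀) ?_ a v _ (by simp [v, yP]) v.isClosedEmbedding.isInducing
    refine ⟨L, ε, hL, (isIso_pullback_map_iff _ (TMul.isInvertible_of_isRelAmple hL) _).2 fun z => ?_⟩
    exact (isIso_pullback_map_iff _ (TMul.isInvertible_of_isRelAmple hL) _).1 hε (c'.π.app s z)
  · simp [yP]
  · have hc : pullback.snd π₂ i' ≫ g' = pullback.fst π₂ i' ≫ pullback.snd ρ a := by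
      rw [← hi', ← pullback.condition_assoc]
      simp [π₂, pullback.map]
    simp only [v, Category.assoc, hc]

end Groth.Agent.YBlowUp
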