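import Groth.Agent.Nagata.Projective
import Groth.Agent.SymAlg.FTSub
import Groth.Agent.SymAlg.VAmplePnLocal
import Groth.Agent.SymAlg.BundleCrit
import Groth.Agent.YBlowUp.Basic

/-!
# Affine morphisms of finite type in a projective bundle, off a hyperplane section
-/

set_option autoImplicit false
set_option linter.style.haveILetI false
set_option backward.isDefEq.respectTransparency false
set_option backward.isDefEq.respectTransparency.types false

universe u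

open CategoryTheory CategoryTheory.Limits AlgebraicGeometry TopologicalSpace Opposite
open Groth.Agent.QC (res res_res res_self app_res)

noncomputable section

namespace Groth.Agent.YBlowUp

open Groth.Agent

variable {X Y : Scheme.{u}}

/-- The structure module is very ample for an affine morphism of finite type. -/
theorem isRelVeryAmple_structure [CompactSpace Y] (q : X ⟶ Y) [IsAffineHom q] [LocallyOfFiniteType q] :
    RelProj.IsRelVeryAmple q (Coh.structureModule X) := by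
  have h0 : RelAmple.IsRelAmple q (Coh.structureModule X) := by
    have := TMul.isRelAmple_pullback_of_isQuasiAffine (f := 𝟙 Y) q ⟨inferInstance, fun V hV =>
      haveI : IsAffine (q ⁻¹ᵁ V : Scheme.{u}) := hV.preimage q
      inferInstance⟩
      (TMul.isRelAmple_id TMul.isInvertible_structureModule)
    rw [Category.comp_id] at this
    exact TMul.isRelAmple_congr (PicLoc.pullbackStructureIso q) this
  obtain ⟨n, -, hn⟩ := SymAlg.eventually_isRelVeryAmple q TMul.isInvertible_structureModule h0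
  obtain ⟨e⟩ := TMul.nonempty_powUnitIso (X := X) n
  obtain ⟨E, hE, 𝒮, j, hj, P, p, ch, hP, O1, lam, hO1, i, hi, hip, ⟨e'⟩⟩ := hn n le_rfl
  exact ⟨E, hE, 𝒮, j, hj, P, p, ch, hP, O1, lam, hO1, i, hi, hip, ⟨e.symm ≪≫ e'⟩⟩

set_option maxHeartbeats 1600000 in
/-- An immersion into a projective scheme missing a hyperplane section. -/
theorem exists_embedding [CompactSpace Y] [QuasiSeparatedSpace Y] (q : X ⟶ Y) [IsAffineHom q]
    [LocallyOfFiniteType q] :
    ∃ (P : Scheme.{u}) (p : P ⟶ Y) (i : X ⟶ P) (M : P.Modules) (σ : Coh.structureModule P ⟶ M),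
      RelProj.IsProjective p ∧ IsImmersion i ∧ QuasiCompact i ∧ i ≫ p = q ∧ RelAmple.IsRelAmple p M ∧
        (∀ x, i x ∈ CohB1.genLocus M σ) ∧ IsClosed (Set.range i ∪ (CohB1.genLocus M σ : Set P)ᶜ) := by
  classical
  have hL := TMul.isInvertible_structureModule (X := X)
  have hLq : Coh.IsQCoh (Coh.structureModule X) := TMul.isQCoh_of_isInvertible hL
  haveI : (Coh.structureModule X).IsQuasicoherent := hLq
  obtain ⟨𝒮L, jl, hjl⟩ := SymAlg.exists_isGrSymAlg hLq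
  obtain ⟨PL, pL, chartL, hPL⟩ := RelProjLib.exists_isRelProj 𝒮L
  let F := (Scheme.Modules.pushforward q).obj (Coh.structureModule X)
  have hF : Coh.IsQCoh F := QC.isQCoh_pushforward q
  obtain ⟨𝒮, jF, hjF⟩ := SymAlg.exists_isGrSymAlg hF
  obtain ⟨u₀, hu₀⟩ := SymAlg.exists_canon hF hjF hjl
  have hd := SymAlg.canon_immData hL hLq hjF hjl hu₀ (isRelVeryAmple_structure q)
  choose V hV hyV _ using fun y : Y => exists_isAffineOpen_mem_and_subset (x := y) (U := ⊤) trivial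
  obtain ⟨t, ht⟩ := isCompact_univ.elim_finite_subcover (fun y => (V y : Set Y))
    (fun y => (V y).2) (fun y _ => Set.mem_iUnion.2 ⟨y, hyV y⟩)
  let one : ∀ O : Y.Opens, Γ(F, O) := fun O => (1 : Γ(X, q ⁻¹ᵁ O))
  have hone : ∀ (O O' : Y.Opens) (h : O ≤ O'), res F h (one O') = one O :=
    fun O O' h => map_one (X.presheaf.map (homOfLE (q.preimage_mono h)).op).hom
  choose G hG using fun b : {y : Y // y ∈ t} => SymAlg.Rel.condSet_eq_univ_of_generators (q := q) (𝒮 := 𝒮) (𝒮L := 𝒮L) (hV b.1)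
    (hjF.2 (V b.1) (hV b.1) (one (V b.1))) (O := q ⁻¹ᵁ V b.1) le_rfl ((hV b.1).preimage q)
  obtain ⟨E, hEq, hEft, ι, hι, hs, 𝒯, jE, hjE, u, hu, hd'⟩ :=
    SymAlg.exists_ft_reduction hF hjF u₀ hd
      (κ := {y : Y // y ∈ t} ⊕ Σ b : {y : Y // y ∈ t}, {g // g ∈ G b})
      (Sum.elim (fun b => ⟨V b.1, hV b.1⟩) (fun c => ⟨V c.1.1, hV c.1.1⟩))
      (fun k => match k with | .inl b => one (V b.1) | .inr c => c.2.1)
  haveI : E.IsQuasicoherent := hEq
  choose e he using fun b : {y : Y // y ∈ t} =>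
    (show one (V b.1) ∈ Set.range (ι.app (V b.1)) from hs (Sum.inl b))
  choose ex hex using fun c : Σ b : {y : Y // y ∈ t}, {g // g ∈ G b} =>
    (show (c.2.1 : Γ(F, V c.1.1)) ∈ Set.range (ι.app (V c.1.1)) from hs (Sum.inr c))
  have hjL : ∀ (b : {y : Y // y ∈ t}) (m : Γ(E, V b.1)), (u.appLE (V b.1) (q ⁻¹ᵁ V b.1) le_rfl).hom (jE.app _ m) =
      SymAlg.jL jl (q ⁻¹ᵁ V b.1) (ι.app (V b.1) m) := by
    intro b m
    rw [RelSpec.QHom.appLE_eq, CommRingCat.hom_comp, RingHom.comp_apply]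
    refine (congrArg _ ((hu (V b.1) m).trans (SymAlg.isCanon_all hu₀ (V b.1) _))).trans ?_
    exact (SymAlg.resL_jL le_rfl _).trans (congrArg (SymAlg.jL jl _) (res_self _ _ _))
  obtain ⟨e₀, he₀, -⟩ := TopCat.Sheaf.existsUnique_gluing' (QC.abSheaf E)
    (fun b : {y : Y // y ∈ t} => V b.1) ⊤ (fun _ => homOfLE le_top)
    (fun y _ => by
      obtain ⟨i, hi, hyi⟩ := Set.mem_iUnion₂.1 (ht (Set.mem_univ y))
      exact Opens.mem_iSup.2 ⟨⟨i, hi⟩, hyi⟩) e
    (fun a b => hι _ (by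
      show ι.app _ (res E inf_le_left (e a)) = ι.app _ (res E inf_le_right (e b))
      rw [← app_res, ← app_res, he, he, hone, hone]))
  have hres : ∀ b : {y : Y // y ∈ t}, res E le_top e₀ = e b := he₀
  obtain ⟨P, p, chart, hP⟩ := RelProjLib.exists_isRelProj 𝒯
  obtain ⟨r, hr, -⟩ := RelProjLib.existsUnique_qmap u hP hPL
  obtain ⟨htop, hri⟩ := SymAlg.Rel.isImmersion_of_immData hL hLq hjl u hPL hr hP hd'
  haveI := hri
  haveI := SymAlg.isIso_pL hL hLq hjl hPL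
  haveI : IsIso (RelProj.domQ u pL chartL).ι := by
    rw [htop]; exact (Scheme.topIso PL).isIso_hom
  let i := inv pL ≫ inv (RelProj.domQ u pL chartL).ι ≫ r
  have hproj : RelProj.IsProjective p :=
    SymAlg.isProjective_of_closedImm_bundle hEq hEft hjE hP (𝟙 P) (Category.id_comp _)
  haveI : IsProper p := (SymAlg.isProper_and_ftData_of_isProjective hproj).1
  have hip : i ≫ p = q := by
    simp only [i]
    rw [Category.assoc, Category.assoc, RelProjLib.qmap_over u hP hPL hr, IsIso.inv_hom_id_assoc,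
      IsIso.inv_hom_id_assoc]
  haveI : QuasiCompact (i ≫ p) := hip ▸ inferInstance
  obtain ⟨O1, lam, hO1⟩ := (RelTilde.Datum.self 𝒯).exists_isTilde hP (1 : ℤ)
  have hO1i : PicF.IsInvertible O1 := RelTilde.isInvertible_of_isGenDegOne hO1 (SymAlg.isGenDegOne_sym hjE)
  obtain ⟨φ, hφ⟩ := SymAlg.exists_isFund hjE hP hO1
  have hamp : RelAmple.IsRelAmple p O1 := SymAlg.isRelAmple_of_isRelVeryAmple p hO1i
    ⟨E, hEq, 𝒯, jE, hjE, P, p, chart, hP, O1, lam, (RelTilde.isRelTwist_iff 𝒯 1 O1 lam).mpr hO1, 𝟙 P,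
      inferInstance, Category.id_comp p, ⟨((Scheme.Modules.pullbackId P).app O1).symm⟩⟩
  let σ := TMul.homOf (L := O1) (φ.app ⊤ e₀ : Γ(O1, p ⁻¹ᵁ ⊤))
  have hval : ∀ (b : {y : Y // y ∈ t}) (O : P.Opens) (h : O ≤ p ⁻¹ᵁ V b.1),
      TMul.val σ O = res O1 h (φ.app (V b.1) (e b)) := by
    intro b O h
    have hn : res O1 (p.preimage_mono (le_top : V b.1 ≤ ⊤)) (φ.app ⊤ e₀ : Γ(O1, p ⁻¹ᵁ ⊤)) =
        φ.app (V b.1) (e b) := (app_res φ le_top e₀).trans (congrArg _ (hres b))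
    rw [TMul.val_homOf, ← hn, res_res]
    rfl
  let D : ∀ b : {y : Y // y ∈ t}, P.Opens := fun b =>
    RelProj.emb p chart (V b.1) (hV b.1) ''ᵁ Proj.basicOpen (𝒯.deg (V b.1) (hV b.1)) (SymAlg.jE jE (V b.1) (e b))
  have hDU : ∀ b, D b ≤ p ⁻¹ᵁ V b.1 := fun b => SymAlg.DjE_le (V b.1) (hV b.1) (e b)
  let W : {y : Y // y ∈ t} → X.affineOpens := fun b => ⟨q ⁻¹ᵁ V b.1, (hV b.1).preimage q⟩
  have hNV : ∀ b : {y : Y // y ∈ t}, SymAlg.Rel.Nonvanishing u (hV b.1) 1 (SymAlg.jE jE (V b.1) (e b)) (W b) := by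
    intro b
    refine ⟨le_rfl, fun c hc => ?_⟩
    obtain ⟨a, rfl⟩ := SymAlg.exists_coeff hLq hjl (W b).2 (TMul.isGen_one (W b).1) hc
    rw [SetLike.mem_coe, pow_one]
    exact Ideal.mem_span_singleton.2 (Dvd.intro_left _ (congrArg _ ((hjL b (e b)).trans
      (congrArg (SymAlg.jL jl _) (he b)))))
  have hclosed : ∀ b : {y : Y // y ∈ t}, IsClosedImmersion (r ∣_ D b) := by
    intro b
    refine (SymAlg.Rel.isClosedImmersion_restrict_iff hL hLq hjl u hPL hr (hV b.1) hP one_pos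
      (hjE.2 (V b.1) (hV b.1) (e b)) (W b).2 le_rfl
      (le_antisymm (SymAlg.Rel.Nonvanishing.le_NV u (hV b.1) (hNV b)) (SymAlg.Rel.NV_le u _ _ _))).2
      (hG b u _ (hjE.2 (V b.1) (hV b.1) (e b)) fun g hg => ?_)
    refine ⟨1, one_pos, SymAlg.jE jE (V b.1) (ex ⟨b, g, hg⟩), by rw [one_mul]; exact hjE.2 _ _ _, ?_⟩
    rw [pow_one, hjL, hjL, he]
    refine Eq.trans ?_ (congrArg (SymAlg.jL jl _) (hex ⟨b, g, hg⟩)).symm
    refine (jl.app_smul g (1 : Γ(X, q ⁻¹ᵁ V b.1))).symm.trans (congrArg (jl.app _) ?_)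
    exact mul_one g
  have hGD : ∀ (z : P), z ∈ CohB1.genLocus O1 σ → ∀ b : {y : Y // y ∈ t}, p z ∈ V b.1 → z ∈ D b := by
    intro z hz b hzb
    obtain ⟨y, hy⟩ := RelTilde.exists_point (q := p) (ch := chart) (V b.1) (hV b.1) hzb
    obtain ⟨e', he'⟩ := SymAlg.exists_jE_not_mem hjE (V b.1) (hV b.1) y
    have hzD' : z ∈ SymAlg.DjE p chart jE (V b.1) (hV b.1) e' :=
      ⟨y, (ProjectiveSpectrum.mem_basicOpen _ _ _).2 he', hy⟩
    have h := TMul.genLocus_inf σ (SymAlg.isGen_fund hjE hO1 hφ (V b.1) (hV b.1) e' (SymAlg.DjE_le _ _ _)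
      ((RelProj.emb p chart (V b.1) (hV b.1)).preimage_image_eq _).le)
      ((hval b _ (SymAlg.DjE_le _ _ _)).trans (SymAlg.res_phi_eq hO1 hjE hφ (V b.1) (hV b.1) e' (e b)))
    have hz2 := h.le ⟨hzD', hz⟩
    rw [SymAlg.basicOpen_bundleFn hjE (V b.1) (hV b.1) e' one_pos (hjE.2 _ _ _), Proj.basicOpen_mul] at hz2
    exact (RelProj.emb p chart (V b.1) (hV b.1)).image_mono inf_le_right hz2
  have hri' : Set.range i = Set.range r := by
    refine Set.Subset.antisymm ?_ ?_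
    · rintro _ ⟨x, rfl⟩
      exact ⟨inv (RelProj.domQ u pL chartL).ι (inv pL x), rfl⟩
    · rintro _ ⟨w, rfl⟩
      refine ⟨pL ((RelProj.domQ u pL chartL).ι w), ?_⟩
      simp only [i, ← Scheme.Hom.comp_apply, Category.assoc, IsIso.hom_inv_id_assoc]
  refine ⟨P, p, i, O1, σ, hproj, inferInstance,
    QuasiCompact.of_comp i p, hip, hamp, fun x => ?_, ?_⟩
  rotate_left
  · rw [← isOpen_compl_iff, Set.compl_union, compl_compl]
    refine isOpen_iff_forall_mem_open.2 fun z hz => ?_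
    obtain ⟨b, hb, hzb⟩ := Set.mem_iUnion₂.1 (ht (Set.mem_univ (p z)))
    have hzD := hGD z hz.2 ⟨b, hb⟩ hzb
    haveI := hclosed ⟨b, hb⟩
    refine ⟨(Subtype.val '' (Set.range (r ∣_ D ⟨b, hb⟩))ᶜ) ∩ (CohB1.genLocus O1 σ : Set P), ?_,
      ((D ⟨b, hb⟩).2.isOpenMap_subtype_val _ (r ∣_ D ⟨b, hb⟩).isClosedMap.isClosed_range.isOpen_compl).inter
        (CohB1.genLocus O1 σ).2, ⟨⟨z, hzD⟩, ?_, rfl⟩, hz.2⟩
    · rintro _ ⟨⟨v, hv, rfl⟩, hvG⟩
      refine ⟨fun hc => hv ?_, hvG⟩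
      obtain ⟨w, hw⟩ := hri'.le hc
      exact ⟨⟨w, show r w ∈ D ⟨b, hb⟩ from hw ▸ v.2⟩, Subtype.ext ((morphismRestrict_base r _).symm ▸ hw)⟩
    · rintro ⟨w, hw⟩
      exact hz.1 (hri'.ge ⟨w.1, by simpa using congrArg Subtype.val hw⟩)
  obtain ⟨b, hb, hxb⟩ := Set.mem_iUnion₂.1 (ht (Set.mem_univ (q x)))
  have hiD : i x ∈ D ⟨b, hb⟩ := by
    let w := inv (RelProj.domQ u pL chartL).ι (inv pL x)
    have hx : pL ((RelProj.domQ u pL chartL).ι w) = x := by
      show pL ((RelProj.domQ u pL chartL).ι (inv (RelProj.domQ u pL chartL).ι (inv pL x))) = x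
      rw [← Scheme.Hom.comp_apply (inv (RelProj.domQ u pL chartL).ι), IsIso.inv_hom_id]
      show pL (inv pL x) = x
      rw [← Scheme.Hom.comp_apply, IsIso.inv_hom_id]
      rfl
    obtain ⟨w', hw', hww⟩ := (SymAlg.Rel.mem_preimage_basicOpen_iff hL hLq hjl u hPL hr (hV b) hP one_pos
      (hjE.2 (V b) (hV b) (e ⟨b, hb⟩)) ((RelProj.domQ u pL chartL).ι w)).2
      ⟨W ⟨b, hb⟩, hx.symm ▸ hxb, hNV ⟨b, hb⟩⟩
    obtain rfl := (RelProj.domQ u pL chartL).ι.isOpenEmbedding.injective hww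
    exact hw'
  refine TMul.le_genLocus _ (U := D ⟨b, hb⟩) ?_ hiD
  rw [hval ⟨b, hb⟩ _ (hDU _)]
  exact SymAlg.isGen_fund hjE hO1 hφ (V b) (hV b) (e ⟨b, hb⟩) (hDU ⟨b, hb⟩)
    ((RelProj.emb p chart (V b) (hV b)).preimage_image_eq _).le

end Groth.Agent.YBlowUp
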